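import Mathlib
import Cfsg.Agent.Lib.MultC.Cover
import Cfsg.Agent.Lib.LieModel.A6.P.Cert
import Cfsg.Agent.Lib.MultC.Pkg
import Cfsg.Agent.Lib.LieModel.A6.P.Main

/-! a projective permutation representation (generated) -/

set_option autoImplicit false
set_option maxRecDepth 100000
set_option Elab.async false

namespace CfsgLib.MultC.A6.Cov

open CfsgLib.Comput CfsgLib.MultC

open CfsgLib.LieModel.A6.P

noncomputable def a0_1 : Net :=
  Net.cons 1 16
  (Net.cons 2 2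
  (Net.cons 4 2
  (Net.cons 8 0
  (Net.cons 16 0
  (Net.cons 32 0
  (Net.cons 16 0
  (Net.cons 8 0
  (Net.cons 4 0
  (Net.cons 2 0
  (Net.cons 1 21
  (Net.nil)))))))))))

noncomputable def a0_0 : Net :=
  Net.cons 1 0x54444000
  (Net.cons 2 0x2032321030
  (Net.cons 4 0x30e000000
  (Net.cons 8 0xd20000
  (Net.cons 16 0x6792
  (Net.cons 32 146
  (Net.cons 16 146
  (Net.cons 8 0x6700f0
  (Net.cons 4 0xc08080c0c
  (Net.cons 2 0x310302112
  (Net.cons 1 0x1404405111
  (Net.nil)))))))))))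

noncomputable def r0 : Net :=
  Net.cons 40 0x7ef92bf498
  (Net.cons 6 0x1600000000000000000000
  (Net.cons 6 0x58000000000000000000000
  (Net.nil)))

noncomputable def y0 : Net := catN r0 (zipN 80 (a0_0.widen (ones 40 2)) (a0_1.widen (ones 6 3)))

noncomputable def a2_1 : Net :=
  Net.cons 1 0
  (Net.cons 2 2
  (Net.cons 4 2
  (Net.cons 8 0
  (Net.cons 16 0
  (Net.cons 32 0
  (Net.cons 16 0
  (Net.cons 8 0
  (Net.cons 4 0
  (Net.cons 2 2
  (Net.cons 1 16
  (Net.nil)))))))))))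

noncomputable def a2_0 : Net :=
  Net.cons 1 0x1150150400
  (Net.cons 2 0x1210210100
  (Net.cons 4 0xb03000200
  (Net.cons 8 0xfc0000
  (Net.cons 16 0x937c
  (Net.cons 32 124
  (Net.cons 16 124
  (Net.cons 8 0xdb00b8
  (Net.cons 4 0xb01020106
  (Net.cons 2 0x3220210303
  (Net.cons 1 0x1400141110
  (Net.nil)))))))))))

noncomputable def r2 : Net :=
  Net.cons 6 0x100000000000000000000
  (Net.cons 6 0x14000000000000000000000
  (Net.cons 6 0x400000000000000000000
  (Net.nil)))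

noncomputable def y2 : Net := catN r2 (zipN 80 (a2_0.widen (ones 40 2)) (a2_1.widen (ones 6 3)))

noncomputable def a4_1 : Net :=
  Net.cons 1 0
  (Net.cons 2 1
  (Net.cons 4 1
  (Net.cons 8 0
  (Net.cons 16 0
  (Net.cons 32 0
  (Net.cons 16 0
  (Net.cons 8 0
  (Net.cons 4 0
  (Net.cons 2 3
  (Net.cons 1 0
  (Net.nil)))))))))))

noncomputable def a4_0 : Net :=
  Net.cons 1 0x1541110150
  (Net.cons 2 0x3300303010
  (Net.cons 4 0xa0b0f0c00
  (Net.cons 8 0x29002e
  (Net.cons 16 0x610a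
  (Net.cons 32 126
  (Net.cons 16 148
  (Net.cons 8 0x5100d7
  (Net.cons 4 0xc04060a09
  (Net.cons 2 0x33020113
  (Net.cons 1 0x4000445405
  (Net.nil)))))))))))

noncomputable def r4 : Net :=
  Net.cons 40 0xc7b22ec2c5
  (Net.nil)

noncomputable def y4 : Net := catN r4 (zipN 80 (a4_0.widen (ones 40 2)) (a4_1.widen (ones 6 3)))

noncomputable def a5_1 : Net :=
  Net.cons 1 20
  (Net.cons 2 0
  (Net.cons 4 2
  (Net.cons 8 0
  (Net.cons 16 0
  (Net.cons 32 0
  (Net.cons 16 0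
  (Net.cons 8 0
  (Net.cons 4 0
  (Net.cons 2 2
  (Net.cons 1 0
  (Net.nil)))))))))))

noncomputable def a5_0 : Net :=
  Net.cons 1 0x5505001114
  (Net.cons 2 0x1103311200
  (Net.cons 4 0xa0b000000
  (Net.cons 8 0xd80005
  (Net.cons 16 0xb078
  (Net.cons 32 125
  (Net.cons 16 52
  (Net.cons 8 0x3c00fd
  (Net.cons 4 0x3070d0a05
  (Net.cons 2 0x3130121310
  (Net.cons 1 0x4145540011
  (Net.nil)))))))))))

noncomputable def r5 : Net :=
  Net.cons 40 0x4bf948b171
  (Net.cons 6 0x68000000000000000000000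
  (Net.cons 6 0x1a00000000000000000000
  (Net.nil)))

noncomputable def y5 : Net := catN r5 (zipN 80 (a5_0.widen (ones 40 2)) (a5_1.widen (ones 6 3)))

noncomputable def a7_1 : Net :=
  Net.cons 1 16
  (Net.cons 2 2
  (Net.cons 4 2
  (Net.cons 8 0
  (Net.cons 16 0
  (Net.cons 32 0
  (Net.cons 16 0
  (Net.cons 8 0
  (Net.cons 4 0
  (Net.cons 2 2
  (Net.cons 1 0
  (Net.nil)))))))))))

noncomputable def a7_0 : Net :=
  Net.cons 1 0x1400141110
  (Net.cons 2 0x2231101210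
  (Net.cons 4 0xc04000600
  (Net.cons 8 0x7c0040
  (Net.cons 16 0x645b
  (Net.cons 32 91
  (Net.cons 16 219
  (Net.cons 8 0x5b008a
  (Net.cons 4 0xc04000003
  (Net.cons 2 0x300303211
  (Net.cons 1 0x1150150400
  (Net.nil)))))))))))

noncomputable def r7 : Net :=
  Net.cons 6 0x400000000000000000000
  (Net.cons 6 0x14000000000000000000000
  (Net.cons 6 0x100000000000000000000
  (Net.nil)))

noncomputable def y7 : Net := catN r7 (zipN 80 (a7_0.widen (ones 40 2)) (a7_1.widen (ones 6 3)))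

noncomputable def a9_1 : Net :=
  Net.cons 1 16
  (Net.cons 2 2
  (Net.cons 4 2
  (Net.cons 8 0
  (Net.cons 16 0
  (Net.cons 32 0
  (Net.cons 16 0
  (Net.cons 8 0
  (Net.cons 4 0
  (Net.cons 2 2
  (Net.cons 1 20
  (Net.nil)))))))))))

noncomputable def a9_0 : Net :=
  Net.cons 1 0x115400150
  (Net.cons 2 0x3110003000
  (Net.cons 4 0x50a090b00
  (Net.cons 8 0x8100e0
  (Net.cons 16 0x9d21
  (Net.cons 32 237
  (Net.cons 16 5
  (Net.cons 8 0xf0081
  (Net.cons 4 0x80c090a05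
  (Net.cons 2 0x1300002311
  (Net.cons 1 0x15400544
  (Net.nil)))))))))))

noncomputable def r9 : Net :=
  Net.cons 40 0xfa19efc102
  (Net.cons 6 0x900000000000000000000
  (Net.cons 6 0x6c000000000000000000000
  (Net.cons 6 0x1200000000000000000000
  (Net.nil))))

noncomputable def y9 : Net := catN r9 (zipN 80 (a9_0.widen (ones 40 2)) (a9_1.widen (ones 6 3)))

noncomputable def a11_1 : Net :=
  Net.cons 1 0
  (Net.cons 2 2
  (Net.cons 4 2
  (Net.cons 8 0
  (Net.cons 16 0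
  (Net.cons 32 0
  (Net.cons 16 0
  (Net.cons 8 0
  (Net.cons 4 0
  (Net.cons 2 2
  (Net.cons 1 16
  (Net.nil)))))))))))

noncomputable def a11_0 : Net :=
  Net.cons 1 0x1150150400
  (Net.cons 2 0x1210210100
  (Net.cons 4 0xb03000200
  (Net.cons 8 0xfc0000
  (Net.cons 16 0x937c
  (Net.cons 32 124
  (Net.cons 16 124
  (Net.cons 8 0xdb00b8
  (Net.cons 4 0xb01020106
  (Net.cons 2 0x3220210303
  (Net.cons 1 0x1400141110
  (Net.nil)))))))))))

noncomputable def r11 : Net :=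
  Net.cons 6 0x100000000000000000000
  (Net.cons 6 0x14000000000000000000000
  (Net.cons 6 0x400000000000000000000
  (Net.nil)))

noncomputable def y11 : Net := catN r11 (zipN 80 (a11_0.widen (ones 40 2)) (a11_1.widen (ones 6 3)))

noncomputable def c0 : Net := Net.cons 40 (Nat.shiftLeft (Nat.pred (Nat.shiftLeft 1 40)) 0) (Net.nil)

noncomputable def c1 : Net := Net.cons 6 (Nat.shiftLeft (Nat.pred (Nat.shiftLeft 1 6)) 86) (Net.cons 6 (Nat.shiftLeft (Nat.pred (Nat.shiftLeft 1 6)) 80) (Net.nil))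

noncomputable def Y : List Net := [y0, y0.rev, y2, y2.rev, y4, y5, y5.rev, y7, y7.rev, y9, y9.rev, y11, y11.rev, c0, c1]

def wit : List Wit := [([0xa02, 9, 0x10b, 8], [0xa02, 0x10b, 9, 8], 15), ([1, 7, 2, 6, 1, 7, 2, 6], [1, 2, 7, 6, 1, 2, 7, 6], 0xe0f0f)]

theorem Y_ok : allL (Net.ok 98) Y = true := by decide +kernel
theorem cen_0 : allRg (cenChk (stepT 98 7 Y) (idTab 98 7) [13, 14]) 0 15 = true := by decide +kernel
theorem e_l3_0 : eqAllH (stepT 98 7 Y) (idTab 98 7) (maskOf [13, 14]) L3.eqns [0, 0, 0] = true := by decide +kernel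
theorem e_x3_0 : eqAllH (stepT 98 7 Y) (idTab 98 7) (maskOf [13, 14]) X3.eqns [0] = true := by decide +kernel
theorem e_l2_0 : eqAllH (stepT 98 7 Y) (idTab 98 7) (maskOf [13, 14]) L2.eqns [0xe0f, 0, 0xf0f, 0xe0f0f] = true := by decide +kernel
theorem e_x2_0 : eqAllH (stepT 98 7 Y) (idTab 98 7) (maskOf [13, 14]) X2.eqns [0, 0, 0] = true := by decide +kernel
theorem e_l1_0 : eqAllH (stepT 98 7 Y) (idTab 98 7) (maskOf [13, 14]) L1.eqns [14, 0xe0f0f, 0, 14, 0xf0f] = true := by decide +kernel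
theorem e_x1_0 : eqAllH (stepT 98 7 Y) (idTab 98 7) (maskOf [13, 14]) X1.eqns [14, 0] = true := by decide +kernel
theorem e_l0_0 : eqAllH (stepT 98 7 Y) (idTab 98 7) (maskOf [13, 14]) L0.eqns [0, 15, 14, 0, 14, 0, 0xf0f] = true := by decide +kernel
theorem e_x0_0 : eqAllH (stepT 98 7 Y) (idTab 98 7) (maskOf [13, 14]) X0.eqns [0, 0, 0] = true := by decide +kernel
theorem e_xd_0 : eqAllH (stepT 98 7 Y) (idTab 98 7) (maskOf [13, 14]) XD.eqns [0, 0, 14, 0, 0, 0xe0f, 0, 0xf0f, 0, 0xe0f, 0] = true := by decide +kernel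
theorem e_mx_0 : eqAllH (stepT 98 7 Y) (idTab 98 7) (maskOf [13, 14]) (L0.maxEqns MX) [14] = true := by decide +kernel
theorem wit_ok : witOK 0x1fff (stepT 6 3 W) (idTab 6 3) (stepT 98 7 Y) (idTab 98 7) wit = true := by decide +kernel
theorem lb_ok : Nat.ble 6 (lbVal (stepW (stepN Y) (wit.map fun w => w.2.2)) 98 [(0, 2, [2]), (80, 3, [1])] []) = true := by
  decide +kernel

theorem wmY : WM (permG 98 Y) (stepT 98 7 Y) (idTab 98 7) := WM.perm Y_ok (by norm_num)

theorem cen : Cen (permG 98 Y) (maskOf [13, 14]) :=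
  cen_perm (K := 7) (T := 15) (by norm_num) Y_ok rfl (allRg_zero cen_0)

theorem low : Low (cl (permG 6 W) top) 6 := by
  have hm := exists_letters W_ok (inA_top E)
  let g : ℕ → cl (permG 6 W) top := fun m => ⟨_, hm m⟩
  have PM : PModel (cl (permG 6 W) top) 6 (finPt 6) := (pModel_perm 6 (by norm_num)).subgroup _
  have hg : ∀ m, Acts 6 (finPt 6) (nth Net.nil W m) (g m) := acts_permG W_ok
  have E1 : Eqs g := eqs_of_WM (PM.wm hg (by norm_num))
  have E2 : Eqs (fun m => (g m, cen.quo m)) :=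
    { l3 := E1.l3.prod (cen.allHold wmY e_l3_0)
      x3 := E1.x3.prod (cen.allHold wmY e_x3_0)
      l2 := E1.l2.prod (cen.allHold wmY e_l2_0)
      x2 := E1.x2.prod (cen.allHold wmY e_x2_0)
      l1 := E1.l1.prod (cen.allHold wmY e_l1_0)
      x1 := E1.x1.prod (cen.allHold wmY e_x1_0)
      l0 := E1.l0.prod (cen.allHold wmY e_l0_0)
      x0 := E1.x0.prod (cen.allHold wmY e_x0_0)
      xd := E1.xd.prod (cen.allHold wmY e_xd_0)
      mx := E1.mx.prod (cen.allHold wmY e_mx_0) }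
  let _ := fstAction (cl (permG 6 W) top) (cenA (permG 98 Y) (maskOf [13, 14]) ⧸ Subgroup.center _) (Fin 6)
  obtain ⟨ρ, hρ⟩ := exists_hom_of_card (cl_lift hm)
    ((card (sm_prod _ (PM.sm hg)) E2).trans card_perm.symm)
  exact low_of_perm PM hg (by norm_num) (by norm_num) (by norm_num) Y_ok cen ρ
    (fun m h => hρ _ (inA_top E2 m h)) wit_ok lb_ok

end CfsgLib.MultC.A6.Cov
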