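import Mathlib
import Cfsg.Agent.Lib.MultC.A6.Link
import Cfsg.Agent.Lib.MultC.A6.Ub
import Cfsg.Agent.Lib.MultC.A6.Cov
import Cfsg.Agent.Lib.MultC.A7.Link
import Cfsg.Agent.Lib.MultC.A7.Ub
import Cfsg.Agent.Lib.MultC.A7.Cov

/-! Schur multipliers of `A₆` and `A₇`. -/

set_option autoImplicit false

namespace CfsgLib.MultC

theorem eq_alt_of_card {n : ℕ} (H : Subgroup (Equiv.Perm (Fin n)))
    (h : 2 * Nat.card H = n.factorial) : H = alternatingGroup (Fin n) := by
  apply Equiv.Perm.eq_alternatingGroup_of_index_eq_two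
  have h1 := H.index_mul_card
  rw [Nat.card_perm, Nat.card_eq_fintype_card (α := Fin n), Fintype.card_fin, ← h] at h1
  exact Nat.eq_of_mul_eq_mul_right Nat.card_pos h1

theorem mult_alt_six : Cfsg.HasCyclicSchurMultiplier (alternatingGroup (Fin 6)) 6 := by
  rw [← eq_alt_of_card A6.PG (by rw [A6.card]; rfl)]
  exact Low.cyclic₂ (a := 2) (b := 3) A6.Cov.low (by norm_num) (by norm_num)
    (A6.P2.pb A6.model A6.real0 A6.card) (A6.P3.pb A6.model A6.real0 A6.card)
    (A6.others A6.model A6.real0 A6.card)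

theorem mult_alt_seven : Cfsg.HasCyclicSchurMultiplier (alternatingGroup (Fin 7)) 6 := by
  rw [← eq_alt_of_card A7.PG (by rw [A7.card]; rfl)]
  exact Low.cyclic₂ (a := 2) (b := 3) A7.Cov.low (by norm_num) (by norm_num)
    (A7.P2.pb A7.model A7.real0 A7.card) (A7.P3.pb A7.model A7.real0 A7.card)
    (A7.others A7.model A7.real0 A7.card)

end CfsgLib.MultC
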